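import Cfsg.Agent.H149.Sp.Quot
import Cfsg.Agent.H573.Spor.MSeven
import Cfsg.Agent.H573.Spor.MThree
import Cfsg.Agent.H393.Iso.He
import Cfsg.Agent.NotCT.Orders

/-!
# `Has3Out` for `Th`

`exists_seven`: in the Monster there are commuting elements `x`, `y` of orders 7, 3 with `C(x)/⟨x⟩ ≅ He`,
`C(y)/⟨y⟩ ≅ Th`; so `Th` contains an element of order 7 whose centralizer has order dividing `7 |He|`.
-/

set_option autoImplicit false
set_option maxRecDepth 100000

open Subgroup

namespace Cfsg.Agent.H149.Sp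

open Cfsg Cfsg.Agent.H393.Iso Cfsg.Agent.H163.PG
open Cfsg.Agent.LThreeMB (fr XX Zx KChart.Cent KChart.pi KChart.chart)
open Cfsg.Agent.MonsterX Cfsg.Agent.MonsterX.Model Cfsg.Agent.MonsterX.MainSimple Cfsg.Agent.MonsterX.MainPack
open Cfsg.Agent.MonsterX.MainBasic Cfsg.Agent.MonsterU
open Cfsg.Agent.MonsterU.Lam2 Cfsg.Agent.H573.Spor
open Cfsg.Spor (Co1)

/-- an element of order `p` is conjugate into each subgroup of index prime to `p` -/
theorem exists_conj_mem {G : Type*} [Group G] [Finite G] {p : ℕ} (hp : p.Prime) {H : Subgroup G} (hH : ¬ p ∣ H.index)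
    {x : G} (hx : orderOf x = p) : ∃ g : G, g⁻¹ * x * g ∈ H := by
  have hf : Fact p.Prime := ⟨hp⟩
  have hZ : IsPGroup p (zpowers x) := by
    rw [IsPGroup.iff_card]
    exact ⟨1, by rw [Nat.card_zpowers, hx, pow_one]⟩
  obtain ⟨a, ha⟩ := hZ.nonempty_fixed_point_of_prime_not_dvd_card (G ⧸ H) hH
  obtain ⟨g, rfl⟩ := QuotientGroup.mk_surjective a
  refine ⟨g, ?_⟩
  have h1 : ((x * g : G) : G ⧸ H) = (g : G ⧸ H) := ha ⟨x, mem_zpowers x⟩
  have h2 := QuotientGroup.eq.1 h1.symm
  rwa [← mul_assoc] at h2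

/-- an element of order 7 commuting with the element of order 3 of fixed rank 8 has fixed rank 6 -/
theorem fr_of_comm {s t : Co1} (hs : fr s = 2 ^ 8) (ht : orderOf t = 7) (hst : t * s = s * t) : fr t = 2 ^ 6 := by
  rcases CpAutMSeven.Ranks.hranks t ht with h | h
  · exfalso
    -- `⟨t⟩` acts on the fixed points of `s`
    have hf : Fact (Nat.Prime 7) := ⟨by norm_num⟩
    have key : ∀ g ∈ zpowers t, ∀ v : L2, s • v = v → s • g • v = g • v := by
      intro g hg v hv
      obtain ⟨n, rfl⟩ := mem_zpowers_iff.1 hg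
      have h1 : Commute s (t ^ n) := (Commute.zpow_right (show Commute s t from hst.symm) n)
      rw [← mul_smul, h1.eq, mul_smul, hv]
    let act : MulAction (zpowers t) {v : L2 // s • v = v} :=
      { smul := fun g v => ⟨(g : Co1) • (v : L2), key g g.2 v v.2⟩
        one_smul := fun v => Subtype.ext (one_smul Co1 (v : L2))
        mul_smul := fun g h v => Subtype.ext (mul_smul (g : Co1) (h : Co1) (v : L2)) }
    have hZ : IsPGroup 7 (zpowers t) := by
      rw [IsPGroup.iff_card]
      exact ⟨1, by rw [Nat.card_zpowers, ht, pow_one]⟩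
    have hfin : Finite {v : L2 // s • v = v} := Nat.finite_of_card_ne_zero (by
      show fr s ≠ 0
      rw [hs]; norm_num)
    have hmod := hZ.card_modEq_card_fixedPoints {v : L2 // s • v = v}
    have h256 : Nat.card {v : L2 // s • v = v} = 256 := by
      show fr s = 256
      rw [hs]; norm_num
    have hle : Nat.card (MulAction.fixedPoints (zpowers t) {v : L2 // s • v = v}) ≤ 1 := by
      have h1 : Nat.card {v : L2 // t • v = v} = 1 := h
      rw [← h1]
      have hfin2 : Finite {v : L2 // t • v = v} := Nat.finite_of_card_ne_zero (by rw [h1]; norm_num)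
      refine Nat.card_le_card_of_injective (fun v => (⟨(v.1.1 : L2), ?_⟩ : {v : L2 // t • v = v})) ?_
      · exact congrArg Subtype.val (v.2 ⟨t, mem_zpowers t⟩)
      · intro a b hab
        exact Subtype.ext (Subtype.ext (congrArg (fun w : {v : L2 // t • v = v} => (w : L2)) hab))
    rw [h256] at hmod
    have h0 : Nat.card (MulAction.fixedPoints (zpowers t) {v : L2 // s • v = v}) = 0 ∨
        Nat.card (MulAction.fixedPoints (zpowers t) {v : L2 // s • v = v}) = 1 := by omega
    rcases h0 with h0 | h0 <;> rw [h0] at hmod <;> exact absurd hmod (by decide)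
  · exact h

/-- commuting elements of orders 7 and 3 of the Monster -/
theorem exists_seven_three : ∃ x y : ↥InstData.M.G, orderOf x = 7 ∧ orderOf y = 3 ∧ x * y = y * x ∧
    Cfsg.Spor.IsoHe (XX x) ∧ Cfsg.Spor.IsoTh (XX y) := by
  have := Monster.finite
  have := MFive.Row.simple_model
  obtain ⟨s, hs, hfs, ⟨e⟩, -⟩ := Cfsg.Agent.LThreeMB.CoOneFin.coOne.nine
  -- an element of order 7 commuting with `s`
  have hf7 : Fact (Nat.Prime 7) := ⟨by norm_num⟩
  have hcard : Nat.card (centralizer ({s} : Set Co1)) = 181440 * 3 := by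
    rw [card_XX, Nat.card_congr e.toEquiv, hs, nat_card_alternatingGroup]
    rw [Nat.card_eq_fintype_card, Fintype.card_fin]
    rfl
  have hfc : Finite (centralizer ({s} : Set Co1)) := Nat.finite_of_card_ne_zero (by rw [hcard]; norm_num)
  obtain ⟨t, ht⟩ := exists_prime_orderOf_dvd_card' (G := centralizer ({s} : Set Co1)) 7 (by rw [hcard]; norm_num)
  have ht' : orderOf (t : Co1) = 7 := by rw [orderOf_coe, ht]
  have hst : (t : Co1) * s = s * t := mem_cent.1 t.2
  have hft := fr_of_comm hfs ht' hst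
  have hcomm : Commute s (t : Co1) := hst.symm
  -- lift the product
  have hch := KChart.chart KDone.lft MFive.Row.hc
  obtain ⟨c, hc⟩ := hch.pi_surj (s * t)
  have ho : orderOf (s * (t : Co1)) = 21 := by
    rw [hcomm.orderOf_mul_eq_mul_orderOf_of_coprime (by rw [hs, ht']; norm_num), hs, ht']
  have h84 : c ^ 84 = 1 := by
    have h1 : KChart.pi MFive.Row.hc (c ^ 21) = 1 := by
      rw [map_pow]
      erw [hc]
      rw [← ho, pow_orderOf_eq_one]
    have h2 : ((c ^ 21 : _) : ↥InstData.M.G) ^ 4 = 1 := Cfsg.Agent.MFive.pow_four hch ((hch.pi_eq_one _).1 h1)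
    apply Subtype.ext
    rw [show 84 = 21 * 4 by norm_num, pow_mul]
    exact h2
  have hst21 : (s * (t : Co1)) ^ 21 = 1 := by rw [← ho, pow_orderOf_eq_one]
  have hs3 : s ^ 3 = 1 := by rw [← hs, pow_orderOf_eq_one]
  have ht7 : (t : Co1) ^ 7 = 1 := by rw [← ht', pow_orderOf_eq_one]
  have hpi : ∀ n : ℕ, KChart.pi MFive.Row.hc (c ^ n) = s ^ n * (t : Co1) ^ n := by
    intro n
    rw [map_pow]
    erw [hc]
    exact hcomm.mul_pow n
  have hx1 : KChart.pi MFive.Row.hc (c ^ 960) = (t : Co1) := by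
    rw [hpi, show 960 = 3 * 320 by norm_num, pow_mul, hs3, one_pow, one_mul, show 3 * 320 = 7 * 137 + 1 by norm_num,
      pow_add, pow_mul, ht7, one_pow, one_mul, pow_one]
  have hy1 : KChart.pi MFive.Row.hc (c ^ 448) = s := by
    rw [hpi, show 448 = 7 * 64 by norm_num, pow_mul (t : Co1), ht7, one_pow, mul_one, show 7 * 64 = 3 * 149 + 1 by norm_num,
      pow_add, pow_mul, hs3, one_pow, one_mul, pow_one]
  have hf3 : Fact (Nat.Prime 3) := ⟨by norm_num⟩
  have hx7 : orderOf (c ^ 960) = 7 := by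
    refine orderOf_eq_prime ?_ ?_
    · rw [← pow_mul, show 960 * 7 = 84 * 80 by norm_num, pow_mul, h84, one_pow]
    · intro h
      rw [h, map_one] at hx1
      rw [← hx1, orderOf_one] at ht'
      norm_num at ht'
  have hy3 : orderOf (c ^ 448) = 3 := by
    refine orderOf_eq_prime ?_ ?_
    · rw [← pow_mul, show 448 * 3 = 84 * 16 by norm_num, pow_mul, h84, one_pow]
    · intro h
      rw [h, map_one] at hy1
      rw [← hy1, orderOf_one] at hs
      norm_num at hs
  have hfrx : fr (KChart.pi Cfsg.Agent.PreUniq.MonRow.cent (c ^ 960)) = 2 ^ 6 := by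
    show fr (KChart.pi MFive.Row.hc (c ^ 960)) = 2 ^ 6
    rw [hx1, hft]
  refine ⟨(c ^ 960 : _), (c ^ 448 : _), ?_, ?_, ?_, ?_, ?_⟩
  · rw [Subgroup.orderOf_coe, hx7]
  · rw [Subgroup.orderOf_coe, hy3]
  · rw [← Subgroup.coe_mul, ← Subgroup.coe_mul, ← pow_add, ← pow_add]
  · exact Cfsg.Agent.BpRankZero.MSix.isoHe_of hx7 hfrx (Cfsg.Agent.CpAutMSeven.SixRow.heHyp _ hx7 hfrx)
  · exact Cfsg.Agent.LThreeB.isoTh_of_inputs (KChart.chart KDone.lft MFive.Row.hc)
      Cfsg.Agent.LThreeMB.CoOneFin.coOne hy3 (by rw [hy1, hfs])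

/-- centralizers in a central quotient of coprime exponent -/
theorem card_cent_dvd {Y T : Type*} [Group Y] [Group T] [Finite Y] (π : Y →* T) (hπ : Function.Surjective π) {m n : ℕ}
    (hmn : Nat.Coprime m n) (hk : ∀ c, π c = 1 → c ^ m = 1 ∧ ∀ d, c * d = d * c) {x : Y} (hx : x ^ n = 1) :
    Nat.card (centralizer ({π x} : Set T)) ∣ Nat.card (centralizer ({x} : Set Y)) := by
  have h1 : centralizer ({π x} : Set T) = (centralizer ({x} : Set Y)).map π := by
    ext b
    constructor
    · intro hb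
      obtain ⟨c, rfl⟩ := hπ b
      refine ⟨c, ?_, rfl⟩
      have h2 : π (x⁻¹ * (c * x * c⁻¹)) = 1 := by
        rw [map_mul, map_mul, map_mul, map_inv, map_inv, mem_cent.1 hb]
        group
      obtain ⟨h3, h4⟩ := hk _ h2
      set z := x⁻¹ * (c * x * c⁻¹) with hz
      have h5 : c * x * c⁻¹ = x * z := by rw [hz]; group
      have h6 : (c * x * c⁻¹) ^ n = 1 := by rw [conj_pow, hx, mul_one, mul_inv_cancel]
      rw [h5] at h6
      have h7 : Commute x z := (h4 x).symm
      rw [h7.mul_pow, hx, one_mul] at h6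
      have h8 : z = 1 := by
        rw [← orderOf_eq_one_iff]
        have h9 := Nat.dvd_gcd (orderOf_dvd_of_pow_eq_one h3) (orderOf_dvd_of_pow_eq_one h6)
        rw [hmn] at h9
        exact Nat.dvd_one.1 h9
      rw [h8, mul_one] at h5
      show c ∈ centralizer ({x} : Set Y)
      rw [mem_cent]
      calc c * x = c * x * c⁻¹ * c := by group
        _ = x * c := by rw [h5]
    · rintro ⟨c, hc, rfl⟩
      rw [mem_cent, ← map_mul, ← map_mul, mem_cent.1 hc]
  rw [h1]
  exact card_map_dvd _ π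

/-- an element of order 7 of `Th` whose centralizer has order dividing `7 |He|` -/
theorem exists_th_seven : ∃ a : Spor.Th, orderOf a = 7 ∧ Nat.card (centralizer ({a} : Set Spor.Th)) ∣ 4030387200 * 7 := by
  have := Monster.finite
  obtain ⟨x, y, hx, hy, hxy, hHe, ⟨e⟩⟩ := exists_seven_three
  let x' : centralizer ({y} : Set ↥InstData.M.G) := ⟨x, mem_cent.2 hxy⟩
  let π : centralizer ({y} : Set ↥InstData.M.G) →* Spor.Th := e.toMonoidHom.comp (QuotientGroup.mk' (Zx y))
  have hπ : Function.Surjective π := e.surjective.comp (QuotientGroup.mk'_surjective _)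
  have hx' : orderOf x' = 7 := by rw [← hx, ← orderOf_coe]
  have hker : ∀ c, π c = 1 → c ^ 3 = 1 ∧ ∀ d, c * d = d * c := by
    intro c hc
    have h1 : QuotientGroup.mk' (Zx y) c = 1 := (map_eq_one_iff e e.injective).1 hc
    have h2 : c ∈ Zx y := (QuotientGroup.eq_one_iff c).1 h1
    obtain ⟨n, rfl⟩ := mem_zpowers_iff.1 h2
    constructor
    · apply Subtype.ext
      show (y ^ n) ^ 3 = 1
      rw [← zpow_natCast, ← zpow_mul, mul_comm, zpow_mul, zpow_natCast, ← hy, pow_orderOf_eq_one, one_zpow]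
    · intro d
      apply Subtype.ext
      show y ^ n * (d : ↥InstData.M.G) = d * y ^ n
      exact (Commute.zpow_left (show Commute y (d : ↥InstData.M.G) from (mem_cent.1 d.2).symm) n)
  have hf : Fact (Nat.Prime 7) := ⟨by norm_num⟩
  refine ⟨π x', orderOf_eq_prime ?_ ?_, ?_⟩
  · rw [← map_pow, ← hx', pow_orderOf_eq_one, map_one]
  · intro h
    have h1 := orderOf_dvd_of_pow_eq_one (hker x' h).1
    rw [hx'] at h1
    norm_num at h1
  · refine (card_cent_dvd π hπ (m := 3) (n := 7) (by norm_num) hker (by rw [← hx', pow_orderOf_eq_one])).trans ?_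
    have h1 : Nat.card (centralizer ({x'} : Set (centralizer ({y} : Set ↥InstData.M.G)))) ∣
        Nat.card (centralizer ({x} : Set ↥InstData.M.G)) := by
      refine Subgroup.card_dvd_of_injective
        (((centralizer ({y} : Set ↥InstData.M.G)).subtype.comp (centralizer ({x'} :
          Set (centralizer ({y} : Set ↥InstData.M.G)))).subtype).codRestrict _ ?_) ?_
      · intro c
        exact mem_cent.2 (congrArg Subtype.val (mem_cent.1 c.2))
      · intro a b hab
        have h0 := congrArg (fun w : centralizer ({x} : Set ↥InstData.M.G) => (w : ↥InstData.M.G)) hab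
        exact Subtype.ext (Subtype.ext h0)
    rw [card_XX x, Monster.card_He hHe, hx] at h1
    exact h1

theorem na_th_all {p : ℕ} (hp : ¬ p ∣ 92897280) [Finite Spor.Th] : NA p Spor.Th := by
  refine NA.of_card fun t ht => ?_
  rw [MonsterX.ThOneClass.card_centralizer ht]
  exact hp

theorem not_adj_th [Finite Spor.Th] [IsSimpleGroup Spor.Th] : ¬ Adj Spor.Th 31 19 := by
  have hN : Nat.card Spor.Th = 90745943887872000 := Cfsg.Agent.S1700.result.2
  have n31 : NA 31 Spor.Th := na_th_all (by norm_num)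
  have n19 : NA 19 Spor.Th := na_th_all (by norm_num)
  have hp : ∀ x ∈ [(2, 15), (31, 1), (19, 1), (3, 10), (5, 3), (7, 2), (13, 1)], Nat.Prime x.1 := by simp; norm_num
  have hL : Nat.card Spor.Th = Eng.prodL [(2, 15), (31, 1), (19, 1), (3, 10), (5, 3), (7, 2), (13, 1)] := by
    rw [hN]
    decide +kernel
  intro hadj
  obtain ⟨u, v, hu, hv, huv⟩ := hadj.exists_commute (by norm_num) (by norm_num)
  obtain ⟨c, k, hC, hcard, hc, hk, hk1, hi, -⟩ := Eng.pair (r := 31) (s := 19) (by norm_num) (by norm_num) (by norm_num)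
    (by rw [hN]; norm_num) (by rw [hN]; norm_num) n31 n19 (Eng.good_of_ok hp (by decide) (by decide +kernel) hL)
    hu hv huv
  have h1 : c * k * (Eng.Nm v).index = 154067816448000 := by
    have h2 := (Eng.Nm v).card_mul_index
    rw [hcard, hN] at h2
    apply Nat.eq_of_mul_eq_mul_left (show 0 < 31 * 19 by norm_num)
    rw [← mul_assoc, ← mul_assoc, h2]
  have h3 := Eng.okPair_spec (L := [(3, 10), (5, 3), (7, 2), (13, 1)]) (a := 15)
    (ks := [2, 3, 6, 9, 18]) (m := 31 * 19) (bad := fun c => c % 49 == 0) (by simp; norm_num)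
    (by decide +kernel) (by norm_num) (by decide +kernel) hc (Eng.okKs_spec (s := 19) (by decide) (by norm_num) hk hk1)
    h1 hi
  have h49 : 49 ∣ c := Nat.dvd_of_mod_eq_zero (by simpa using h3)
  -- the index of `C(v)` is prime to 7
  have h7 : ¬ 7 ∣ (Eng.Cm v).index := by
    rintro ⟨m, hm⟩
    obtain ⟨c', rfl⟩ := h49
    have h2 := (Eng.Cm v).card_mul_index
    rw [hC, hm, hN] at h2
    have h8 : 7 ^ 3 ∣ 90745943887872000 := ⟨31 * 19 * c' * m, by rw [← h2]; ring⟩
    norm_num at h8
  obtain ⟨a, ha, hca⟩ := exists_th_seven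
  obtain ⟨g, hg⟩ := exists_conj_mem (by norm_num) h7 ha
  have h5 := mem_cent.1 hg
  have h6 : g * v * g⁻¹ ∈ centralizer ({a} : Set Spor.Th) := by
    rw [mem_cent]
    calc g * v * g⁻¹ * a = g * (v * (g⁻¹ * a * g)) * g⁻¹ := by group
      _ = g * (g⁻¹ * a * g * v) * g⁻¹ := by rw [h5]
      _ = a * (g * v * g⁻¹) := by group
  have h8 : orderOf (g * v * g⁻¹) = 19 := by
    rw [← hv]
    exact orderOf_injective (MulAut.conj g).toMonoidHom (MulAut.conj g).injective v
  have h9 : 19 ∣ Nat.card (centralizer ({a} : Set Spor.Th)) := by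
    have h10 : orderOf (⟨_, h6⟩ : centralizer ({a} : Set Spor.Th)) = 19 := by rw [← h8, ← orderOf_coe]
    exact h10 ▸ orderOf_dvd_natCard _
  have h10 := h9.trans hca
  norm_num at h10

theorem has3Out_th {G : Type*} [Group G] [Finite G] [IsSimpleGroup G] (h : Spor.IsoTh G) (_ : IsSporadicGroup G) :
    Has3Out G := by
  have hN := NotCT.Orders.th h
  have ho : Nat.card (Cfsg.Out G) = 1 := h.elim fun e => (card_out_congr e).trans S2083.result
  have h1 : ¬ Adj G 19 31 := fun hadj => h.elim fun e => by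
    have := Finite.of_equiv G e.toEquiv
    have := Cfsg.Agent.S1700.result.1
    exact not_adj_th ((adj_congr e).1 hadj.symm)
  have hna : ∀ p : ℕ, ¬ p ∣ 92897280 → NA p G := fun p hp => h.elim fun e => by
    have := Finite.of_equiv G e.toEquiv
    exact (na_th_all hp).of_equiv e.symm
  exact has3Out_of_one ho (p := 2) (q := 19) (r := 31) (by norm_num) (by norm_num) (by norm_num)
    (by norm_num) (by norm_num) (by rw [hN]; norm_num) (not_adj_two (by norm_num) (hna 19 (by norm_num)))
    h1 (not_adj_two (by norm_num) (hna 31 (by norm_num)))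

end Cfsg.Agent.H149.Sp
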