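import Cfsg.Agent.CpAutBig.TwoPrimes
import Mathlib

/-!
# Commuting endomorphisms of coprime prime orders of a rational space
-/

set_option autoImplicit false

namespace Cfsg.Agent.H149.Sp

open Polynomial Module
open Cfsg.Agent.SigZeroCo2.Rank (fix mem_fix)

variable {V : Type*} [AddCommGroup V] [Module ℚ V]

theorem aeval_restrict (f : End ℚ V) (U : Submodule ℚ V) (hU : ∀ v ∈ U, f v ∈ U) (P : ℚ[X]) (u : U) :
    ((aeval (f.restrict hU : End ℚ U) P u : U) : V) = aeval f P (u : V) := by
  induction P using Polynomial.induction_on' with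
  | add p q hp hq => rw [map_add, map_add, LinearMap.add_apply, LinearMap.add_apply, Submodule.coe_add, hp, hq]
  | monomial n a =>
    rw [aeval_monomial, aeval_monomial, Module.End.mul_apply, Module.End.mul_apply,
      Module.algebraMap_end_apply, Module.algebraMap_end_apply, Submodule.coe_smul,
      Module.End.pow_restrict, LinearMap.coe_restrict_apply]

theorem totient_le_of_mem [FiniteDimensional ℚ V] (f : End ℚ V) (U : Submodule ℚ V) (hU : ∀ v ∈ U, f v ∈ U) {n : ℕ}
    (hn : 0 < n) {u : V} (hu : u ∈ U) (h0 : u ≠ 0) (h : aeval f (cyclotomic n ℚ) u = 0) : n.totient ≤ finrank ℚ U := by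
  refine CpAutBig.TwoPrimes.totient_le (f.restrict hU : End ℚ U) hn (u := ⟨u, hu⟩) ?_ ?_
  · intro h1
    exact h0 (congrArg Subtype.val h1)
  · apply Subtype.ext
    rw [aeval_restrict]
    exact h

theorem range_inv (f : End ℚ V) : ∀ v ∈ LinearMap.range (f - LinearMap.id), f v ∈ LinearMap.range (f - LinearMap.id) := by
  rintro _ ⟨v, rfl⟩
  refine ⟨f v, ?_⟩
  simp [map_sub]

theorem finrank_range_add [FiniteDimensional ℚ V] (f : End ℚ V) :
    finrank ℚ (LinearMap.range (f - LinearMap.id)) + finrank ℚ (fix f) = finrank ℚ V :=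
  LinearMap.finrank_range_add_finrank_ker _

/-- an automorphism of prime order `p` moves at least `p - 1` dimensions -/
theorem finrank_fix_add_le [FiniteDimensional ℚ V] {p : ℕ} (hp : p.Prime) {f : End ℚ V} (hf : f ^ p = 1) (h1 : f ≠ 1) :
    finrank ℚ (fix f) + (p - 1) ≤ finrank ℚ V := by
  obtain ⟨v, hv⟩ : ∃ v, f v - v ≠ 0 := by
    by_contra hcon
    push Not at hcon
    apply h1
    ext v
    exact sub_eq_zero.1 (hcon v)
  have h2 := totient_le_of_mem f _ (range_inv f) hp.pos (u := f v - v) ⟨v, by simp⟩ hv (by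
    have h3 : cyclotomic p ℚ * (X - 1) = X ^ p - 1 := by
      have := Fact.mk hp
      exact cyclotomic_prime_mul_X_sub_one ℚ p
    have h4 := congrArg (fun P => aeval f P v) h3
    simp only [map_mul, map_sub, aeval_X, map_one, map_pow, hf, sub_self, LinearMap.zero_apply,
      Module.End.mul_apply, LinearMap.sub_apply, Module.End.one_apply] at h4
    rw [map_sub]
    exact h4)
  rw [Nat.totient_prime hp] at h2
  have := finrank_range_add f
  omega

theorem fix_pow_of_coprime {f : End ℚ V} {q a : ℕ} (hf : f ^ q = 1) (h : Nat.Coprime a q) : fix (f ^ a) = fix f := by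
  have key : ∀ (g : End ℚ V) (n : ℕ) (v : V), g v = v → (g ^ n) v = v := by
    intro g n v hv
    induction n with
    | zero => rfl
    | succ n ih => rw [pow_succ, Module.End.mul_apply, hv, ih]
  ext v
  rw [mem_fix, mem_fix]
  constructor
  · intro hv
    have h1 : Function.IsPeriodicPt f a v := by
      rw [Function.IsPeriodicPt, Function.IsFixedPt, ← Module.End.pow_apply]; exact hv
    have h2 : Function.IsPeriodicPt f q v := by
      rw [Function.IsPeriodicPt, Function.IsFixedPt, ← Module.End.pow_apply, hf]; rfl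
    have h3 := h1.gcd h2
    rw [h.gcd_eq_one] at h3
    simpa [Function.IsPeriodicPt, Function.IsFixedPt] using h3
  · exact key f a v

/-- **Two commuting automorphisms of prime orders `p ≠ q`** -/
theorem finrank_le_add [FiniteDimensional ℚ V] {p q : ℕ} (hp : p.Prime) (hq : q.Prime) (hpq : p ≠ q)
    {x y : End ℚ V} (hx : x ^ p = 1) (hy : y ^ q = 1) (hc : x * y = y * x)
    (hbig : finrank ℚ V < finrank ℚ (fix (x * y)) + (q - 1) * (p - 1)) :
    finrank ℚ V ≤ finrank ℚ (fix x) + finrank ℚ (fix y) := by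
  have hc' : Commute x y := hc
  have hwq : (x * y) ^ q = x ^ q := by rw [hc'.mul_pow, hy, mul_one]
  have hwp : (x * y) ^ p = y ^ p := by rw [hc'.mul_pow, hx, one_mul]
  have key : ∀ v, (x ^ q) ((y ^ p) v - v) = (y ^ p) v - v := by
    intro v
    by_contra hne
    set u := (x ^ q) ((y ^ p) v - v) - ((y ^ p) v - v) with hu
    have hu0 : u ≠ 0 := sub_ne_zero.2 hne
    have hue : u = aeval (x * y) ((X ^ q - 1) * (X ^ p - 1) : ℚ[X]) v := by
      simp only [map_mul, map_sub, aeval_X, map_one, map_pow, hwq, hwp, Module.End.mul_apply,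
        LinearMap.sub_apply, Module.End.one_apply]
      rw [hu, map_sub]
      abel
    have h1 := totient_le_of_mem (x * y) _ (range_inv (x * y)) (Nat.mul_pos hq.pos hp.pos) (u := u) ?_ hu0 ?_
    · rw [Nat.totient_mul ((Nat.coprime_primes hq hp).2 (Ne.symm hpq)), Nat.totient_prime hq, Nat.totient_prime hp] at h1
      have := finrank_range_add (x * y)
      omega
    · have h2 : (X - 1 : ℚ[X]) ∣ (X ^ q - 1) * (X ^ p - 1) :=
        Dvd.dvd.mul_right (by simpa using sub_one_dvd_pow_sub_one (X : ℚ[X]) q) _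
      obtain ⟨R, hR⟩ := h2
      refine ⟨aeval (x * y) R v, ?_⟩
      rw [hue, hR, map_mul, Module.End.mul_apply, map_sub, aeval_X, map_one]
      rfl
    · rw [hue, ← Module.End.mul_apply, ← map_mul, CpAutBig.TwoPrimes.cyclotomic_mul hp hq hpq, map_mul]
      have h3 : aeval (x * y) (X ^ (q * p) - 1 : ℚ[X]) = 0 := by
        rw [map_sub, map_pow, aeval_X, map_one, pow_mul, hwq, ← pow_mul, mul_comm q p, pow_mul, hx, one_pow, sub_self]
      rw [h3, zero_mul, LinearMap.zero_apply]
  have hfy : fix (y ^ p) = fix y := fix_pow_of_coprime hy ((Nat.coprime_primes hp hq).2 hpq)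
  have hfx : fix (x ^ q) = fix x := fix_pow_of_coprime hx ((Nat.coprime_primes hq hp).2 (Ne.symm hpq))
  have h1 : LinearMap.range (y ^ p - LinearMap.id) ≤ fix x := by
    rintro _ ⟨v, rfl⟩
    rw [← hfx, mem_fix]
    simpa using key v
  have h2 := finrank_range_add (y ^ p)
  rw [hfy] at h2
  have h3 := Submodule.finrank_mono h1
  omega

end Cfsg.Agent.H149.Sp
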