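import Cfsg.Agent.H149.Sp.Quot
import Cfsg.Agent.H393.Iso.Baby
import Cfsg.Agent.H573.Spor.MThree
import Cfsg.Agent.NotCT.Orders

/-!
# `Has3Out` for the Baby Monster

`na_b_all`: a copy of helper393's proof for the primes which do not divide the orders of the centralizers of involutions
of the classes 2A and 2B. `not_adj_b`: two elements of orders 31, 47 of `B` lift to the Monster; there `C(31)` is solvable
and contains an element of order 3 with centralizer `3 × Th`.
-/

set_option autoImplicit false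
set_option maxRecDepth 100000

open Subgroup

namespace Cfsg.Agent.H149.Sp

open Cfsg.Agent.H393.Iso Cfsg.Agent.H163.PG
open Cfsg Cfsg.Lie Cfsg.Agent.Bimonster Cfsg.Agent.BabyU Cfsg.Agent.TwoESix.Cover
open Cfsg.Agent.MonsterX.KSide Cfsg.Agent.MonsterX.KLift Cfsg.Agent.MonsterX.KModel
open Cfsg.Agent.MonsterX.Model Cfsg.Agent.MonsterX.MainPack Cfsg.Agent.MonsterX.MainSimple
open Cfsg.Agent.MonsterX.MainBasic Cfsg.Agent.MonsterU.Assembly Cfsg.Agent.MonsterN Cfsg.Agent.MonsterN.Lit
open Cfsg.Agent.MonsterN.LitInst Cfsg.Agent.MonsterU.Lam2 Cfsg.Agent.MonsterU.TwoCls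
open Cfsg.Agent.BabyComp Cfsg.Agent.BabyComp.Main Cfsg.Agent.BabyComp.BaseTwo Cfsg.Agent.R01.Lifts

theorem na_b_model_all {p : ℕ} (hp : p.Prime) (hodd : p % 2 = 1) (h1' : ¬ p ∣ 306129918735099415756800)
    (h2' : ¬ p ∣ 2 ^ 25 * 4157776806543360000) : NA p Spor.BabyMonster := by
  have hp2 : p ≠ 2 := by rintro rfl; norm_num at hodd
  refine CTwoTab.BInst.elim ?_
  intro K _ _ hK hF _ _ _ _ q y h π f₁ f₂ f₃ f₄ M₁' hq h10 DK Fc hz hcz hcd hL hc5 big hq5 hcard Bs' hr
  obtain ⟨M₁, B2⟩ := BaseTwo.exists_base2 hq5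
  have Bs : Base (q (y 5)) M₁ := B2.toBase
  have hnt : ∀ x d : Spor.BabyMonster, orderOf x = p → IsConj (q (y 5)) d → x * d = d * x → False :=
    fun x d hx hd hxd => false_of_isConj (by rw [hcard]; exact h1') hx hd hxd
  have hcz' := card_cz CTwoTab.BInst.all
  rw [← hz] at hcz'
  have hnz := fun (x w : _) => false_of_isConj (p := p) (by rw [hcz']; exact h2') (x := x) (d := w)
  -- the involutions of `M₁`
  have key : ∀ x u : Spor.BabyMonster, orderOf x = p → u * u = 1 → u ≠ 1 → x * u = u * x →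
      (∃ h : Spor.BabyMonster, h⁻¹ * u * h ∈ M₁) → False := by
    rintro x u hx huu hu1 hxu ⟨g, hg⟩
    obtain ⟨k, hk, hqk⟩ := M_le hq h10 big Bs _ hg
    have hkk : k * k = 1 := by
      refine lift_sq (Cfsg.Agent.TwoESix.LeviG.rootFacts hK hF) (KeyInst.extra hF) (Cfsg.Agent.TwoESix.RootsInst.roots K hF)
        hq h10 DK hk ?_
      rw [hqk]
      calc g⁻¹ * u * g * (g⁻¹ * u * g) = g⁻¹ * (u * u) * g := by group
        _ = 1 := by rw [huu]; group
    have hqk1 : q k ≠ 1 := by
      intro e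
      apply hu1
      rw [hqk] at e
      calc u = g * (g⁻¹ * u * g) * g⁻¹ := by group
        _ = 1 := by rw [e]; group
    have hk1 : k ≠ 1 := fun e => hqk1 (by rw [e, map_one])
    have hkτ : k ≠ tb _ _ := fun e => hqk1 (by rw [e, hq.mapz])
    obtain ⟨b, hb, hb47⟩ := exists_lift hq hp hp2 ((orderOf_conj' g x).trans hx)
    have hbk : b * k = k * b := by
      refine lift_comm hq hp hp2 hb47 ?_
      rw [hb, hqk]
      calc g⁻¹ * x * g * (g⁻¹ * u * g) = g⁻¹ * (x * u) * g := by group
        _ = g⁻¹ * (u * x) * g := by rw [hxu]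
        _ = _ := by group
    have hbt : b * tb _ _ = tb _ _ * b := hq.comm b
    have hbO : orderOf ((BB _ _).subtype b) = p := by
      rw [← hb47]
      exact orderOf_injective _ (Subgroup.subtype_injective _) b
    have hcomm : ∀ w : BB Cfsg.Agent.MonsterX.KDone.K Cfsg.Agent.MonsterX.KLinkInst.x₀, b * w = w * b →
        (BB _ _).subtype b * (BB _ _).subtype w = (BB _ _).subtype w * (BB _ _).subtype b := fun w hw => by
      rw [← map_mul, hw, map_mul]
    rcases Fc.classes k hkk hk1 hkτ with h1 | h1 | h1 | h1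
    · exact hnt (q b) (q k) (by rw [hb]; exact (orderOf_conj' g x).trans hx) (q.map_isConj (hc5.symm.trans h1))
        (by rw [← map_mul, hbk, map_mul])
    · refine hnz _ _ hbO (hcz.trans ((BB _ _).subtype.map_isConj (FusionType.conj_mul_t Fc.cen h1)))
        (hcomm _ ?_)
      rw [← mul_assoc, hbt, mul_assoc, hbk, ← mul_assoc]
    · exact hnz _ _ hbO (hcz.trans ((BB _ _).subtype.map_isConj h1)) (hcomm _ hbk)
    · exact hnz _ _ hbO (hcd.trans ((BB _ _).subtype.map_isConj h1)) (hcomm _ hbk)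
  intro x u hx hu hxu
  have huu := sq_of_two hu
  have hu1 := ne_one_of_two hu
  rcases Bs.classes u huu hu1 with hg | ⟨d, hd, hc, hud⟩
  · exact key x u hx huu hu1 hxu hg
  · obtain ⟨g, rfl⟩ := isConj_iff.1 hd
    have htt : q (y 5) * q (y 5) = 1 := by rw [← map_mul, h.sq 5 (by norm_num) (by norm_num), map_one]
    have htM : q (y 5) ∈ M₁ := by
      rw [BaseTwo.Base.eq_map hq h10 big Bs]
      exact ⟨y 5, (mem_KK' hq h10).2 (by group), rfl⟩
    have hcc := hc
    -- `e = g⁻¹ * u * g * t`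
    have he1 : IsConj (q (y 5)) (g⁻¹ * u * g * q (y 5)) := by
      refine hud.trans (isConj_iff.2 ⟨g⁻¹, ?_⟩)
      group
    have hut : g⁻¹ * u * g * q (y 5) = q (y 5) * (g⁻¹ * u * g) := by
      calc g⁻¹ * u * g * q (y 5) = g⁻¹ * (u * (g * q (y 5) * g⁻¹)) * g := by group
        _ = g⁻¹ * ((g * q (y 5) * g⁻¹) * u) * g := by rw [hc]
        _ = _ := by group
    have he2 : q (y 5) * (g⁻¹ * u * g * q (y 5)) = g⁻¹ * u * g := by
      rw [hut, ← mul_assoc, htt, one_mul]
    have he3 : g⁻¹ * u * g * q (y 5) * q (y 5) = g⁻¹ * u * g := by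
      rw [mul_assoc, htt, mul_one]
    by_cases heM : g⁻¹ * u * g * q (y 5) ∈ M₁
    · refine key x u hx huu hu1 hxu ⟨g, ?_⟩
      rw [← he3]
      exact M₁.mul_mem heM htM
    · have h1 := B2.comm_of_odd (g⁻¹ * u * g * q (y 5)) (g⁻¹ * x * g) he1 (by rw [he2, he3]) heM ?_ ?_
      · exact hnt _ _ ((orderOf_conj' g x).trans hx) (IsConj.refl _) h1
      · rw [orderOf_conj', hx]; exact Nat.odd_iff.2 hodd
      · rw [he2]
        calc g⁻¹ * x * g * (g⁻¹ * u * g) = g⁻¹ * (x * u) * g := by group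
          _ = g⁻¹ * (u * x) * g := by rw [hxu]
          _ = _ := by group

theorem na_b_all {G : Type*} [Group G] (h : Spor.IsoB G) {p : ℕ} (hp : p.Prime) (hodd : p % 2 = 1)
    (h1 : ¬ p ∣ 306129918735099415756800) (h2 : ¬ p ∣ 2 ^ 25 * 4157776806543360000) : NA p G :=
  h.elim fun e => (na_b_model_all hp hodd h1 h2).of_equiv e.symm

/-- in the Monster: the centralizer of an element of order 31 which commutes with the involution `t` -/
theorem not_adj_b : ¬ Adj Spor.BabyMonster 31 47 := by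
  refine CTwoTab.BInst.elim ?_
  intro K _ _ hK hF _ _ _ _ q y h π f₁ f₂ f₃ f₄ M₁' hq h10 DK Fc hz hcz hcd hL hc5 big hq5 hcard Bs' hr
  intro hadj
  have n31 : NA 31 Spor.BabyMonster := na_b_model_all (by norm_num) (by norm_num) (by norm_num) (by norm_num)
  obtain ⟨x, w, hx, hw, hxw⟩ := hadj.exists_commute (by norm_num) (by norm_num)
  obtain ⟨b, hb, hb31⟩ := exists_lift hq (by norm_num : (31 : ℕ).Prime) (by norm_num) hx
  obtain ⟨c, hc, hc47⟩ := exists_lift hq (by norm_num : (47 : ℕ).Prime) (by norm_num) hw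
  have hbc : b * c = c * b := lift_comm hq (by norm_num) (by norm_num) hb31 (by rw [hb, hc, hxw])
  set u := (BB _ _).subtype b with hu
  set v := (BB _ _).subtype c with hv
  have hu31 : orderOf u = 31 := by
    rw [← hb31]
    exact orderOf_injective _ (Subgroup.subtype_injective _) b
  have hv47 : orderOf v = 47 := by
    rw [← hc47]
    exact orderOf_injective _ (Subgroup.subtype_injective _) c
  have huv : u * v = v * u := by rw [hu, hv, ← map_mul, hbc, map_mul]
  -- an element of order 3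
  obtain ⟨y3, hy3, hTh⟩ := H573.Spor.Monster.exists_th
  have hM := H573.Spor.Monster.card_model
  have hc3 : Nat.card (Eng.Cm y3) = 90745943887872000 * 3 := by
    rw [H573.Spor.card_XX, H573.Spor.Monster.card_Th hTh, hy3]
  have hf31 : Fact (Nat.Prime 31) := ⟨by norm_num⟩
  obtain ⟨u0, hu0⟩ := exists_prime_orderOf_dvd_card' (G := Eng.Cm y3) 31 (by rw [hc3]; norm_num)
  have hu0' : orderOf (u0 : ↥Cfsg.Agent.MonsterX.InstData.M.G) = 31 := by rw [orderOf_coe, hu0]
  obtain ⟨g, hg⟩ := Eng.exists_conj (by norm_num : (31 : ℕ).Prime) (by rw [hM]; norm_num) hu31 hu0'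
  have huy : u * (g * y3 * g⁻¹) = g * y3 * g⁻¹ * u := by
    obtain ⟨n, hn⟩ := mem_zpowers_iff.1 hg
    have h1 : Commute (g * (u0 : ↥Cfsg.Agent.MonsterX.InstData.M.G) * g⁻¹) (g * y3 * g⁻¹) := by
      have h2 : (u0 : ↥Cfsg.Agent.MonsterX.InstData.M.G) * y3 = y3 * u0 := mem_cent.1 u0.2
      show g * (u0 : ↥Cfsg.Agent.MonsterX.InstData.M.G) * g⁻¹ * (g * y3 * g⁻¹) = g * y3 * g⁻¹ * (g * (u0 : ↥Cfsg.Agent.MonsterX.InstData.M.G) * g⁻¹)
      calc g * (u0 : ↥Cfsg.Agent.MonsterX.InstData.M.G) * g⁻¹ * (g * y3 * g⁻¹) = g * ((u0 : ↥Cfsg.Agent.MonsterX.InstData.M.G) * y3) * g⁻¹ := by group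
        _ = g * (y3 * u0) * g⁻¹ := by rw [h2]
        _ = _ := by group
    rw [← hn]
    exact h1.zpow_left n
  have hcy : Nat.card (Eng.Cm (g * y3 * g⁻¹)) = 90745943887872000 * 3 := by
    rw [← hc3]
    have h1 : Eng.Cm (g * y3 * g⁻¹) = (Eng.Cm y3).map (MulAut.conj g).toMonoidHom := by
      ext k
      rw [mem_map_equiv, mem_cent, mem_cent, MulAut.conj_symm_apply]
      constructor
      · intro h
        calc g⁻¹ * k * g * y3 = g⁻¹ * (k * (g * y3 * g⁻¹)) * g := by group
          _ = g⁻¹ * (g * y3 * g⁻¹ * k) * g := by rw [h]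
          _ = y3 * (g⁻¹ * k * g) := by group
      · intro h
        calc k * (g * y3 * g⁻¹) = g * (g⁻¹ * k * g * y3) * g⁻¹ := by group
          _ = g * (y3 * (g⁻¹ * k * g)) * g⁻¹ := by rw [h]
          _ = g * y3 * g⁻¹ * k := by group
    rw [h1]
    exact card_map_of_injective (MulAut.conj g).injective
  -- the involution
  set τ := (BB _ _).subtype (tb Cfsg.Agent.MonsterX.KDone.K Cfsg.Agent.MonsterX.KLinkInst.x₀) with hτ
  have hτu : τ * u = u * τ := by rw [hτ, hu, ← map_mul, ← map_mul, hq.comm b]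
  have hττ : τ * τ = 1 := by rw [hτ, ← map_mul, hq.zz, map_one]
  have hτ1 : τ ≠ 1 := fun e => hq.zne (Subgroup.subtype_injective _ (e.trans (map_one _).symm))
  have h4 : ¬ 4 ∣ Nat.card (Eng.Cm u) := by
    refine Eng.not_four_dvd (τ := (⟨τ, mem_cent.2 hτu⟩ : Eng.Cm u)) ?_ ?_
    · rw [orderOf_mk]
      exact two_of_sq hττ hτ1
    · intro z hzτ hzn
      have h5 : (z : ↥Cfsg.Agent.MonsterX.InstData.M.G) * τ = τ * z := congrArg Subtype.val hzτ
      obtain ⟨b', hb'⟩ := hr (z : ↥Cfsg.Agent.MonsterX.InstData.M.G) h5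
      have h6 : x * q b' = q b' * x := by
        rw [← hb, ← map_mul, ← map_mul]
        congr 1
        apply Subgroup.subtype_injective
        rw [map_mul, map_mul, hb']
        exact (mem_cent.1 z.2).symm
      have h7 : q b' = 1 := by
        by_contra hne
        obtain ⟨n, hn⟩ := hzn
        have h8 : q b' ^ 2 ^ n = 1 := by
          have h9 : b' ^ 2 ^ n = 1 := by
            apply Subgroup.subtype_injective
            rw [map_pow, hb', map_one]
            exact congrArg Subtype.val hn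
          rw [← map_pow, h9, map_one]
        obtain ⟨m, hm, hmo⟩ := (Nat.dvd_prime_pow Nat.prime_two).1 (orderOf_dvd_of_pow_eq_one h8)
        rcases m with _ | m
        · rw [pow_zero, orderOf_eq_one_iff] at hmo
          exact hne hmo
        · refine n31 x (q b' ^ 2 ^ m) hx ?_ (Commute.pow_right (show Commute x (q b') from h6) _)
          rw [orderOf_pow_of_dvd (by positivity) (by rw [hmo, pow_succ]; exact dvd_mul_right _ _), hmo, pow_succ,
            Nat.mul_div_cancel_left _ (by positivity)]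
      rcases (hq.ker b').1 h7 with h8 | h8
      · left
        apply Subtype.ext
        rw [← hb', h8, map_one]
        rfl
      · right
        apply Subtype.ext
        rw [← hb', h8]
  have hp : ∀ x ∈ [(2, 46), (3, 20), (5, 9), (7, 6), (11, 2), (13, 3), (17, 1), (19, 1), (23, 1), (29, 1), (31, 1),
      (41, 1), (47, 1), (59, 1), (71, 1)], Nat.Prime x.1 := by simp; norm_num
  have hL : Nat.card ↥Cfsg.Agent.MonsterX.InstData.M.G = Eng.prodL [(2, 46), (3, 20), (5, 9), (7, 6), (11, 2), (13, 3), (17, 1), (19, 1),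
      (23, 1), (29, 1), (31, 1), (41, 1), (47, 1), (59, 1), (71, 1)] := by
    rw [hM]
    decide +kernel
  have hgood := Eng.good_of_ok hp (by decide) (s := 47) (by decide +kernel) hL
  have h10 := Eng.dvd_card_cm (s := 47) (by norm_num) (by rw [hM]; norm_num)
    (H495.NotFour.isSolvable_of_not_four_dvd h4) hv47 huv (fun p i hp hps hi hd => by
      by_cases hp2 : p = 2
      · subst hp2
        have hi1 : i = 1 := by
          by_contra hne
          apply h4
          exact (pow_dvd_pow 2 (show 2 ≤ i by omega)).trans hd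
        rw [hi1]
        norm_num
      · exact hgood p i hp hps hp2 hi (hd.trans (card_subgroup_dvd_card _))) huy (by
      rw [show orderOf (g * y3 * g⁻¹) = orderOf y3 from
        orderOf_injective (MulAut.conj g).toMonoidHom (MulAut.conj g).injective y3, hy3]
      norm_num)
  rw [hcy] at h10
  norm_num at h10

theorem has3Out_b {G : Type*} [Group G] [Finite G] (h : Spor.IsoB G) (_ : IsSporadicGroup G) :
    Has3Out G := by
  have hN := NotCT.Orders.b h
  have ho : Nat.card (Cfsg.Out G) = 1 := h.elim fun e => (card_out_congr e).trans S2084.result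
  have h1 : ¬ Adj G 31 47 := fun hadj => h.elim fun e => not_adj_b ((adj_congr e).1 hadj)
  exact has3Out_of_one ho (p := 2) (q := 31) (r := 47) (by norm_num) (by norm_num) (by norm_num)
    (by norm_num) (by norm_num) (by rw [hN]; norm_num) (not_adj_two (by norm_num)
      (na_b_all h (by norm_num) (by norm_num) (by norm_num) (by norm_num)))
    h1 (not_adj_two (by norm_num) (na_b_all h (by norm_num) (by norm_num) (by norm_num) (by norm_num)))

end Cfsg.Agent.H149.Sp
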