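import Cfsg.Agent.H149.Sp.LinPair
import Cfsg.Agent.H163.PG.Base
import Cfsg.Agent.CoFive.FixRank
import Cfsg.Agent.CoFive.Ranks
import Cfsg.Agent.CpAutMSeven.Ranks
import Cfsg.Agent.BpSpor.MBigCo
import Mathlib

/-!
# Non-adjacent primes in the automorphism group of the Leech lattice

Elements of order `5, 7, 11, 13, 23` of `Co0` have fixed spaces of dimension at most `8, 6, 4, 0, 2`; two commuting
elements of different prime orders `p, q` with `24 < (p - 1) (q - 1)` have fixed spaces of total dimension at least `24`.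
-/

set_option autoImplicit false

namespace Cfsg.Agent.H149.Sp

open Cfsg Module
open Cfsg.Agent.SigZeroCo2.Rank (fix mem_fix)
open Cfsg.Agent.SigZeroCo2.Lin
open Cfsg.Agent.LThreeMB (fr)
open Cfsg.Agent.LThreeBX.NoSeven
open Cfsg.Agent.CoOneType.ClosingFacts
open Cfsg.Spor (Co1)

noncomputable def fd (a : Co0) : ℕ := finrank ℚ (fix (rep a))

theorem finrank_Sp : finrank ℚ Sp = 24 := by
  rw [Module.finrank_pi]
  rfl

theorem fr_mk_eq {a : Co0} {n : ℕ} (hn : Odd n) (ha : a ^ n = 1) : fr (QuotientGroup.mk a : Co1) = 2 ^ fd a :=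
  CoFive.FixRank.fr_eq hn ha

theorem orderOf_mk {a : Co0} {p : ℕ} (hp : p.Prime) (h2 : p ≠ 2) (ha : orderOf a = p) :
    orderOf (QuotientGroup.mk a : Co1) = p := by
  have := Fact.mk hp
  have hap : a ^ p = 1 := by rw [← ha, pow_orderOf_eq_one]
  refine orderOf_eq_prime ?_ ?_
  · rw [← QuotientGroup.mk_pow, hap]; rfl
  · intro h
    rw [QuotientGroup.eq_one_iff] at h
    have h4 := CoFive.Ranks.sq_of_center h
    have h5 : orderOf a ∣ 2 := orderOf_dvd_of_pow_eq_one h4
    rw [ha] at h5
    exact h2 ((Nat.prime_dvd_prime_iff_eq hp Nat.prime_two).1 h5)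

/-- bounds for the dimension of the fixed space -/
def B : ℕ → ℕ
  | 5 => 8
  | 7 => 6
  | 11 => 4
  | 13 => 0
  | 23 => 2
  | _ => 24

theorem two_pow_le {a b : ℕ} (h : 2 ^ a ≤ 2 ^ b) : a ≤ b := (Nat.pow_le_pow_iff_right (by norm_num)).1 h

theorem fd_le {a : Co0} {p : ℕ} (hp : p = 5 ∨ p = 7 ∨ p = 11 ∨ p = 13 ∨ p = 23) (ha : orderOf a = p) : fd a ≤ B p := by
  have hap : a ^ p = 1 := by rw [← ha, pow_orderOf_eq_one]
  rcases hp with rfl | rfl | rfl | rfl | rfl
  · have h1 := fr_mk_eq (by decide) hap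
    have h2 := orderOf_mk (by norm_num) (by norm_num) ha
    apply two_pow_le
    rw [← h1]
    rcases CoFive.Ranks.ranks _ h2 with h | h | h <;> rw [h] <;> simp [B]
  · have h1 := fr_mk_eq (by decide) hap
    have h2 := orderOf_mk (by norm_num) (by norm_num) ha
    apply two_pow_le
    rw [← h1]
    rcases CpAutMSeven.Ranks.hranks _ h2 with h | h <;> rw [h] <;> simp [B]
  · have h1 := fr_mk_eq (by decide) hap
    have h2 := orderOf_mk (by norm_num) (by norm_num) ha
    apply two_pow_le
    rw [← h1]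
    exact BpSpor.MBigCo.fr_le h2
  · have h1 := fr_mk_eq (by decide) hap
    have h2 := orderOf_mk (by norm_num) (by norm_num) ha
    apply two_pow_le
    rw [← h1, BpSpor.MBigCo.fr_thirteen h2]
    simp [B]
  · have h1 := finrank_fix_add_le (p := 23) (by norm_num) (f := rep a) (by rw [← map_pow, hap, map_one]) (by
      intro h
      rw [← map_one rep] at h
      rw [rep_injective h, orderOf_one] at ha
      omega)
    rw [finrank_Sp] at h1
    show finrank ℚ (fix (rep a)) ≤ 2
    omega

/-- two commuting elements of `Co0` of different prime orders -/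
theorem co0_pair {a b : Co0} {p q : ℕ} (hp : p.Prime) (hq : q.Prime) (hpq : p ≠ q) (ha : a ^ p = 1) (hb : b ^ q = 1)
    (hc : a * b = b * a) (hbig : 24 < finrank ℚ (fix (rep (a * b))) + (q - 1) * (p - 1)) : 24 ≤ fd a + fd b := by
  have h := finrank_le_add hp hq hpq (x := rep a) (y := rep b) (by rw [← map_pow, ha, map_one])
    (by rw [← map_pow, hb, map_one]) (by rw [← map_mul, hc, map_mul]) (by rw [finrank_Sp, ← map_mul]; exact hbig)
  rw [finrank_Sp] at h
  exact h

/-- the set of the primes considered -/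
def P5 (p : ℕ) : Prop := p = 5 ∨ p = 7 ∨ p = 11 ∨ p = 13 ∨ p = 23

theorem P5.prime {p : ℕ} (h : P5 p) : p.Prime := by
  rcases h with rfl | rfl | rfl | rfl | rfl <;> norm_num

/-- **Different primes among `5, 7, 11, 13, 23`, not `5, 7`, are not adjacent in `Co0`.** -/
theorem co0_not_comm {a b : Co0} {p q : ℕ} (hp : P5 p) (hq : P5 q) (hpq : p < q) (h57 : ¬ (p = 5 ∧ q = 7))
    (ha : orderOf a = p) (hb : orderOf b = q) : a * b ≠ b * a := by
  intro hc
  have h1 := fd_le hp ha
  have h2 := fd_le hq hb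
  have h3 := co0_pair hp.prime hq.prime hpq.ne (by rw [← ha, pow_orderOf_eq_one]) (by rw [← hb, pow_orderOf_eq_one]) hc ?_
  · rcases hp with rfl | rfl | rfl | rfl | rfl <;> rcases hq with rfl | rfl | rfl | rfl | rfl <;> simp [B] at h1 h2 <;> omega
  · rcases hp with rfl | rfl | rfl | rfl | rfl <;> rcases hq with rfl | rfl | rfl | rfl | rfl <;> omega

/-- with a common fixed vector also `5, 7` are not adjacent -/
theorem co0_not_comm_fix {a b : Co0} {v : leechLattice} (hv : v ≠ 0) (hav : a • v = v) (hbv : b • v = v)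
    (ha : orderOf a = 5) (hb : orderOf b = 7) : a * b ≠ b * a := by
  intro hc
  have h1 := fd_le (Or.inl rfl) ha
  have h2 := fd_le (Or.inr (Or.inl rfl)) hb
  have h3 := co0_pair (p := 5) (q := 7) (by norm_num) (by norm_num) (by norm_num) (by rw [← ha, pow_orderOf_eq_one])
    (by rw [← hb, pow_orderOf_eq_one]) hc (by
      have h4 : 0 < finrank ℚ (fix (rep (a * b))) := by
        have hm : toV v ∈ fix (rep (a * b)) := by
          rw [mem_fix, rep_toV, mul_smul, hbv, hav]
        have hne : toV v ≠ 0 := by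
          intro h
          rw [← toV_zero] at h
          exact hv (toV_injective h)
        have : Nontrivial (fix (rep (a * b))) := ⟨⟨⟨toV v, hm⟩, 0, fun h => hne (congrArg Subtype.val h)⟩⟩
        exact Module.finrank_pos
      omega)
  simp [B] at h1 h2
  omega

/-- the same for `Co1` -/
theorem co1_not_comm {s t : Co1} {p q : ℕ} (hp : P5 p) (hq : P5 q) (hpq : p < q) (h57 : ¬ (p = 5 ∧ q = 7))
    (hs : orderOf s = p) (ht : orderOf t = q) : s * t ≠ t * s := by
  intro hc
  have hop : Odd p := by rcases hp with rfl | rfl | rfl | rfl | rfl <;> decide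
  have hoq : Odd q := by rcases hq with rfl | rfl | rfl | rfl | rfl <;> decide
  obtain ⟨a, rfl, ha⟩ := exists_odd hop (show s ^ p = 1 by rw [← hs, pow_orderOf_eq_one])
  obtain ⟨b, rfl, hb⟩ := exists_odd hoq (show t ^ q = 1 by rw [← ht, pow_orderOf_eq_one])
  have h1 := comm_of_mk hop ha hc
  have hao : orderOf a = p := by
    have := Fact.mk hp.prime
    refine orderOf_eq_prime ha ?_
    rintro rfl
    have : (QuotientGroup.mk 1 : Co1) = 1 := rfl
    change orderOf (QuotientGroup.mk 1 : Co1) = p at hs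
    rw [this, orderOf_one] at hs
    exact hp.prime.one_lt.ne hs
  have hbo : orderOf b = q := by
    have := Fact.mk hq.prime
    refine orderOf_eq_prime hb ?_
    rintro rfl
    have : (QuotientGroup.mk 1 : Co1) = 1 := rfl
    change orderOf (QuotientGroup.mk 1 : Co1) = q at ht
    rw [this, orderOf_one] at ht
    exact hq.prime.one_lt.ne ht
  exact co0_not_comm hp hq hpq h57 hao hbo h1

end Cfsg.Agent.H149.Sp
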