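import Cfsg.Agent.H149.Sp.CopCoMain
import Cfsg.Agent.BpSpor.CoTwoFive
import Cfsg.Agent.H663.ObCo2

/-!
# The centralizers of the involutions of `Co2`, `Co3` (task 1971, S4174 S4175)

* `CB 2 5 1` for the stabilizers of nonzero vectors (`Co2`, `Co3`);
* `CB 2 11 0` for `Co2`.
-/

set_option autoImplicit false

namespace Cfsg.Agent.H149.Sp.CopCo

open Cfsg Module Subgroup
open Cfsg.Agent.SigZeroCo2.Rank (fix mem_fix)
open Cfsg.Agent.SigZeroCo2.Lin (rep Sp rep_injective)
open Cfsg.Agent.CpAutCoFive (nr mv mem_mv mv_inv le_fix_of eq_zero_of_fix dvd_finrank_sub finrank_add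
  finrank_fix_ne_zero)
open Cfsg.Agent.H537.Cop
open Cfsg.Agent.PreUniqCo.FivePair (Dims)

theorem no_25_two {t : Co0} (ht : orderOf t = 2) {v : leechLattice} (hv : v ≠ 0) (htv : t • v = v) {G : Type*} [Group G]
    [Finite G] {φ : G →* Co0} (hφ : Function.Injective φ) (hc : ∀ g, Commute t (φ g)) (hfix : ∀ g, φ g • v = v) :
    ¬ 25 ∣ Nat.card G := by
  intro hd
  have h5 : Fact (Nat.Prime 5) := ⟨by norm_num⟩
  obtain ⟨P, hP⟩ := Sylow.exists_subgroup_card_pow_prime 5 (n := 2) (G := G) hd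
  have ho : ∀ g : G, orderOf (φ g) = orderOf g := orderOf_injective φ hφ
  have tt : t * t = 1 := by rw [← pow_two, ← ht, pow_orderOf_eq_one]
  have t1 : t ≠ 1 := by
    rintro rfl
    rw [orderOf_one] at ht
    omega
  have hdt := BpSpor.Co2.Five.dims_two tt t1
  have hd0 := finrank_fix_ne_zero hv htv
  have hdim : ∀ c : G, orderOf c = 5 → finrank ℚ (fix (rep (φ c))) = 4 ∨ finrank ℚ (fix (rep (φ c))) = 8 := fun c hc5 =>
    PreUniqCo.FiveCo.dims_five ((ho c).trans hc5) (finrank_fix_ne_zero hv (hfix c))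
  rcases gens h5.out hP with ⟨g, -, hg⟩ | ⟨a, -, b, -, oa, ob, om, hab⟩
  · have o1 : orderOf (φ g) = 25 := by rw [ho, hg]; norm_num
    have o2 : orderOf (g ^ 5) = 5 := by rw [orderOf_pow_of_dvd (by norm_num) (by rw [hg]; norm_num), hg]; norm_num
    have o3 : orderOf (φ g ^ 5) = 5 := by rw [← map_pow, ho, o2]
    have pz := rep_pow o3
    have py := rep_pow o1
    have cyz : Commute (rep (φ g)) (rep (φ g ^ 5)) := comm_rep ((Commute.refl (φ g)).pow_right 5)
    have cyt : Commute (rep (φ g)) (rep t) := comm_rep (hc g).symm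
    have hdvd : ∀ W : Submodule ℚ Sp, (∀ w ∈ W, rep (φ g) w ∈ W) → W ≤ mv (rep (φ g ^ 5)) 5 → 20 ∣ finrank ℚ W := by
      intro W hW hWm
      have h1 : Nat.totient 25 = 20 := by decide
      rw [← h1]
      refine dvd_finrank_sub (by norm_num) py hW ?_
      intro p hp hp25 w hw hw'
      have h2 : p = 5 := (Nat.prime_dvd_prime_iff_eq hp (by norm_num)).1
        (hp.dvd_of_dvd_pow (show p ∣ 5 ^ 2 by norm_num; exact hp25))
      subst h2
      rw [show 25 / 5 = 5 from rfl, ← map_pow] at hw'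
      exact eq_zero_of_fix (by norm_num) hw' (hWm hw)
    have h3 := hdvd (fix (rep t) ⊓ mv (rep (φ g ^ 5)) 5)
      (fun w hw => ⟨PreUniqCo.Rat.fix_comm cyt.symm w hw.1, mv_inv cyz hw.2⟩) inf_le_right
    have h4 : finrank ℚ (fix (rep t) ⊓ mv (rep (φ g ^ 5)) 5 : Submodule ℚ Sp) ≤ finrank ℚ (fix (rep t)) :=
      Submodule.finrank_mono inf_le_left
    have h6 : finrank ℚ (fix (rep t) ⊓ mv (rep (φ g ^ 5)) 5 : Submodule ℚ Sp) = 0 := by omega
    have h7 : fix (rep t) ≤ fix (rep (φ g ^ 5)) := by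
      refine le_fix_of (by norm_num) pz (fun w hw => PreUniqCo.Rat.fix_comm (cyt.symm.pow_right 5 |> fun h => by
        rwa [← map_pow] at h) w hw) ?_
      intro w hw hw'
      have h5 : w ∈ (fix (rep t) ⊓ mv (rep (φ g ^ 5)) 5 : Submodule ℚ Sp) := ⟨hw, hw'⟩
      rw [Submodule.finrank_eq_zero.1 h6, Submodule.mem_bot] at h5
      exact h5
    have h8 := Submodule.finrank_mono h7
    have h9 := hdvd (mv (rep (φ g ^ 5)) 5) (fun w hw => mv_inv cyz hw) le_rfl
    have h10 := finrank_add (u := rep (φ g ^ 5)) (r := 5) (by norm_num) pz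
    rw [CpAutCoFive.finrank_Sp] at h10
    have h11 := hdim _ o2
    rw [map_pow] at h11
    omega
  · have D : Dims (rep (φ a)) (rep (φ b)) := by
      refine ⟨CpAutCoFive.finrank_Sp, hdim b ob, fun m _ => ?_⟩
      have := hdim _ (om m)
      rwa [map_mul, map_pow, map_mul, map_pow] at this
    have pw : ∀ c : G, orderOf c = 5 → φ c ^ 5 = 1 := fun c hc5 => by
      rw [← map_pow, ← hc5, pow_orderOf_eq_one, map_one]
    exact t1 (BpSpor.Co2.Five.eq_one_of_pair (pw a oa) (pw b ob) (hab.map φ) D tt (hc a).symm (hc b).symm hv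
      (hfix a) (hfix b) htv)

variable {T : Type*} [Group T] [Finite T] {f : T →* Co0} {v : leechLattice}

/-- `25` does not divide the order of the centralizer of an involution -/
theorem stab_2_5 (hf : Function.Injective f) (hv : v ≠ 0) (hfix : ∀ g, f g • v = v) : CB 2 5 1 T := by
  intro x hx
  have h := no_25_two (t := f x) ((orderOf_injective f hf x).trans hx) hv (hfix x)
    (G := centralizer ({x} : Set T)) (φ := f.comp (Subgroup.subtype _)) (hf.comp (Subgroup.subtype_injective _))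
    (fun g => by
      have h1 : (g : T) * x = x * g := mem_centralizer_singleton_iff.1 g.2
      exact (show Commute x (g : T) from h1.symm).map f) (fun g => hfix _)
  norm_num
  exact h

theorem co2_2_5 : CB 2 5 1 Spor.Co2 := by
  have := finite_co2
  exact stab_2_5 f2_inj leechU_ne f2_fix

theorem co3_2_5 : CB 2 5 1 Spor.Co3 := by
  have := finite_co3
  exact stab_2_5 f3_inj leechV_ne f3_fix

theorem co2_2_11 : CB 2 11 0 Spor.Co2 := by
  have := finite_co2
  intro x hx hd
  rw [zero_add, pow_one] at hd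
  have h11 : Fact (Nat.Prime 11) := ⟨by norm_num⟩
  obtain ⟨y, hy⟩ := exists_prime_orderOf_dvd_card' 11 hd
  have hy' : orderOf (y : Spor.Co2) = 11 := by rw [← hy, Subgroup.orderOf_coe]
  have hc : Commute x (y : Spor.Co2) := (show Commute (y : Spor.Co2) x from mem_centralizer_singleton_iff.1 y.2).symm
  refine H663.ObCo2.not22 (x * (y : Spor.Co2)) ?_
  rw [hc.orderOf_mul_eq_mul_orderOf_of_coprime (by rw [hx, hy']; norm_num), hx, hy']

end Cfsg.Agent.H149.Sp.CopCo
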