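import Cfsg.Agent.H149.Sp.Conway
import Cfsg.Agent.H149.Sp.Small
import Cfsg.Agent.H149.Sp.Monster
import Cfsg.Agent.H149.Sp.Baby
import Cfsg.Agent.H149.Sp.Th
import Cfsg.Agent.H149.Sp.HNEleven
import Cfsg.Agent.H163.PG.Few
import Cfsg.Agent.H163.PG.Fi22
import Cfsg.Agent.H163.PG.Fi23
import Cfsg.Agent.H163.PG.Fi24
import Cfsg.Agent.H169.HasRu
import Cfsg.Agent.H169.HasHe
import Mathlib

/-!
# The sporadic groups: three pairwise non-adjacent primes, or at most four primes (S2529)
-/

set_option autoImplicit false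

namespace Cfsg.Agent.H149.Sp

open Cfsg Cfsg.Agent.H163.PG

theorem goal_few.{a, b} {S : Type a} [Group S] [Finite S] (h : IsSporadicGroup S) {p q r : ℕ} {n : ℕ}
    (hd : Nat.card S ∣ (2 * (p * (q * r))) ^ n) (hp : p.Prime) (hq : q.Prime) (hr : r.Prime) : Goal.{a, b} S := by
  refine goal_of_primes {2, p, q, r} ?_ ?_ ?_
  · exact Finset.card_le_four
  · intro l hl hls
    have h1 := hl.dvd_of_dvd_pow (hls.trans hd)
    simp only [Finset.mem_insert, Finset.mem_singleton]
    rcases hl.dvd_mul.1 h1 with h2 | h2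
    · exact Or.inl ((Nat.prime_dvd_prime_iff_eq hl Nat.prime_two).1 h2)
    rcases hl.dvd_mul.1 h2 with h2 | h2
    · exact Or.inr (Or.inl ((Nat.prime_dvd_prime_iff_eq hl hp).1 h2))
    rcases hl.dvd_mul.1 h2 with h2 | h2
    · exact Or.inr (Or.inr (Or.inl ((Nat.prime_dvd_prime_iff_eq hl hq).1 h2)))
    · exact Or.inr (Or.inr (Or.inr ((Nat.prime_dvd_prime_iff_eq hl hr).1 h2)))
  · intro l hl hls
    simp only [Finset.mem_insert, Finset.mem_singleton]
    exact Or.inl ((Nat.prime_dvd_prime_iff_eq hl Nat.prime_two).1 (hls.trans (card_out_dvd_two h)))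

theorem goal_m11.{a, b} {S : Type a} [Group S] [Finite S] (h : Spor.IsoM11 S) (hs : IsSporadicGroup S) : Goal.{a, b} S :=
  goal_few hs (p := 3) (q := 5) (r := 11) (n := 4) (by rw [NotCT.Orders.m11 h]; norm_num)
    (by norm_num) (by norm_num) (by norm_num)

theorem goal_m12.{a, b} {S : Type a} [Group S] [Finite S] (h : Spor.IsoM12 S) (hs : IsSporadicGroup S) : Goal.{a, b} S :=
  goal_few hs (p := 3) (q := 5) (r := 11) (n := 6) (by rw [NotCT.Orders.m12 h]; norm_num)
    (by norm_num) (by norm_num) (by norm_num)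

theorem goal_j2.{a, b} {S : Type a} [Group S] [Finite S] (h : Spor.IsoJ2 S) (hs : IsSporadicGroup S) : Goal.{a, b} S :=
  goal_few hs (p := 3) (q := 5) (r := 7) (n := 7) (by rw [NotCT.Orders.j2 h]; norm_num)
    (by norm_num) (by norm_num) (by norm_num)

/-- **The sporadic groups** -/
theorem goal_sporadic_of.{a, b}
    (hHe : ∀ (S : Type a) [Group S] [Finite S] [IsSimpleGroup S], Spor.IsoHe S → IsSporadicGroup S → Has3Out S)
    {S : Type a} [Group S] [Finite S] [IsSimpleGroup S] (hs : IsSporadicGroup S) : Goal.{a, b} S := by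
  have hs' := hs
  rcases hs' with h | h | h | h | h | h | h | h | h | h | h | h | h | h | h | h | h | h | h | h | h | h | h | h | h | h
  · exact goal_m11 h hs
  · exact goal_m12 h hs
  · exact goal_of_has3Out (has3Out_m22 h hs)
  · exact goal_of_has3Out (has3Out_m23 h hs)
  · exact goal_of_has3Out (has3Out_m24 h hs)
  · exact goal_of_has3Out (has3Out_j1 h hs)
  · exact goal_j2 h hs
  · exact goal_of_has3Out (has3Out_j3 h hs)
  · exact goal_of_has3Out (has3Out_j4 h hs)
  · exact goal_of_has3Out (has3Out_co1 h hs)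
  · exact goal_of_has3Out (has3Out_co2 h hs)
  · exact goal_of_has3Out (has3Out_co3 h hs)
  · exact goal_of_has3Out (has3Out_mcl h hs)
  · exact goal_of_has3Out (has3Out_hs h hs)
  · exact goal_of_has3Out (has3Out_suz h hs)
  · exact goal_of_has3Out (hHe S h hs)
  · exact goal_of_has3Out (Cfsg.Agent.H169.RuRow.has3Out_ru h hs)
  · exact goal_of_has3Out (has3Out_on h hs)
  · exact goal_of_has3Out (has3Out_ly h hs)
  · exact goal_of_has3Out (fi22_has3Out h)
  · exact goal_of_has3Out (fi23_has3Out h)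
  · exact goal_of_has3Out (fi24_has3Out h)
  · exact goal_of_has3Out (has3Out_hn h hs)
  · exact goal_of_has3Out (has3Out_th h hs)
  · exact goal_of_has3Out (has3Out_b h hs)
  · exact goal_of_has3Out (has3Out_m h hs)

/-- **The sporadic groups** -/
theorem goal_sporadic.{a, b}
    {S : Type a} [Group S] [Finite S] [IsSimpleGroup S] (hs : IsSporadicGroup S) : Goal.{a, b} S :=
  goal_sporadic_of.{a, b} (fun _ _ _ _ h h' => Cfsg.Agent.H169.HeRow.has3Out_he h h') hs

end Cfsg.Agent.H149.Sp
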